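import Groth.Agent.EtMilLib.Glue
import Groth.Agent.QC.Pullback
import Groth.Agent.QC.Support
import Groth.Agent.LocFree.Props
import Groth.Agent.DerPerf.Local

/-!
Quasi-coherent modules on a pinching square: reduction to Milnor squares of rings.
-/

set_option autoImplicit false
set_option backward.isDefEq.respectTransparency false
set_option linter.style.haveILetI false

universe u

open CategoryTheory CategoryTheory.Limits AlgebraicGeometry TopologicalSpace Opposite TensorProduct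
open Groth.Agent Groth.Agent.QC

namespace Groth.Agent.PinchQC

/-- A pinching of rings is a Milnor square. -/
theorem exists_square (B' B A' : Type u) [CommRing B'] [CommRing B] [CommRing A'] [Algebra B' B] [Algebra B' A']
    (hs : Function.Surjective (algebraMap B' B))
    (h1 : RingHom.ker (algebraMap B' A') ⊓ RingHom.ker (algebraMap B' B) = ⊥)
    (h2 : ∀ a ∈ Ideal.map (algebraMap B' A') (RingHom.ker (algebraMap B' B)),
      ∃ i ∈ RingHom.ker (algebraMap B' B), algebraMap B' A' i = a) :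
    ∃ (A : Type u) (_ : CommRing A) (_ : Algebra B A) (_ : Algebra A' A) (_ : Algebra B' A)
      (_ : IsScalarTower B' B A) (_ : IsScalarTower B' A' A), EtMil.IsFibreSquare B' B A' A := by
  let J := Ideal.map (algebraMap B' A') (RingHom.ker (algebraMap B' B))
  let g : { g : B' →+* A' ⧸ J // RingHom.ker (algebraMap B' B) ≤ RingHom.ker g } :=
    ⟨(Ideal.Quotient.mk J).comp (algebraMap B' A'), fun x hx => by
      rw [RingHom.mem_ker, RingHom.comp_apply, Ideal.Quotient.eq_zero_iff_mem]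
      exact Ideal.mem_map_of_mem _ hx⟩
  let θ : B →+* A' ⧸ J := RingHom.liftOfSurjective (algebraMap B' B) hs g
  have hθ : ∀ x, θ (algebraMap B' B x) = Ideal.Quotient.mk J (algebraMap B' A' x) := fun x =>
    (algebraMap B' B).liftOfSurjective_comp_apply hs g x
  refine ⟨A' ⧸ J, inferInstance, θ.toAlgebra, inferInstance, inferInstance,
    @IsScalarTower.of_algebraMap_eq B' B (A' ⧸ J) _ _ _ _ θ.toAlgebra _ fun x => (hθ x).symm, inferInstance,
    Ideal.Quotient.mk_surjective, ?_⟩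
  intro b a' h
  obtain ⟨x, rfl⟩ := hs b
  have h' : θ (algebraMap B' B x) = Ideal.Quotient.mk J a' := h
  rw [hθ, eq_comm, Ideal.Quotient.eq] at h'
  obtain ⟨i, hi, hia⟩ := h2 _ h'
  refine ⟨x + i, ⟨by rw [map_add, RingHom.mem_ker.1 hi, add_zero], by rw [map_add, hia, add_sub_cancel]⟩,
    fun y hy => sub_eq_zero.1 ?_⟩
  refine (Submodule.mem_bot _).1 (h1.le ⟨?_, ?_⟩)
  · show algebraMap B' A' (y - (x + i)) = 0
    rw [map_sub, hy.2, map_add, hia, add_sub_cancel, sub_self]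
  · show algebraMap B' B (y - (x + i)) = 0
    rw [map_sub, hy.1, map_add, RingHom.mem_ker.1 hi, add_zero, sub_self]

variable {X Y : Scheme.{u}}

/-- Sections of a pullback over an affine over an affine. -/
theorem pullback_sections (f : X ⟶ Y) {F : Y.Modules} (hF : Coh.IsQCoh F) {U : Y.Opens} (hU : IsAffineOpen U)
    {V : X.Opens} (hV : IsAffineOpen V) (h : V ≤ f ⁻¹ᵁ U) :
    letI := (f.appLE U V h).hom.toAlgebra
    Nonempty (Γ(X, V) ⊗[Γ(Y, U)] Γ(F, U) ≃ₗ[Γ(X, V)] Γ((Scheme.Modules.pullback f).obj F, V)) := by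
  letI : Algebra Γ(Y, U) Γ(X, V) := (f.appLE U V h).hom.toAlgebra
  haveI : F.IsQuasicoherent := hF
  let G := (modulesSpecToSheaf.obj (F.restrict hU.fromSpec)).presheaf.obj (op ⊤)
  let e : G ≅ ModuleCat.of Γ(Y, U) Γ(F, U) := (topEquiv hU F).toModuleIso
  exact ⟨((ModuleCat.extendScalars.{u, u, u} (f.appLE U V h).hom).mapIso e).symm.toLinearEquiv.trans
      ((tilde.toTildeΓNatIso.app ((ModuleCat.extendScalars.{u, u, u} (f.appLE U V h).hom).obj G) ≪≫
        moduleSpecΓFunctor.mapIso (pullbackAffineIso f hU hV h).symm).toLinearEquiv.trans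
        (topEquiv hV ((Scheme.Modules.pullback f).obj F)))⟩

/-- Flat sections on an affine cover give a flat module. -/
theorem isFlat_of_affine {M : X.Modules} (hM : Coh.IsQCoh M)
    (h : ∀ x : X, ∃ U : X.Opens, IsAffineOpen U ∧ x ∈ U ∧ Module.Flat Γ(X, U) Γ(M, U)) : FlatMod.IsFlat M := by
  intro x
  obtain ⟨U, hU, hx, hflat⟩ := h x
  letI := Module.compHom (M.presheaf.stalk x) (X.presheaf.germ U x hx).hom
  obtain ⟨g, hg⟩ := LocFree.exists_stalkMap hU hM hx
  letI := (X.presheaf.germ U x hx).hom.toAlgebra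
  haveI := hU.isLocalization_stalk ⟨x, hx⟩
  haveI : IsScalarTower Γ(X, U) (X.presheaf.stalk x) (M.presheaf.stalk x) :=
    ⟨fun a c m => mul_smul ((X.presheaf.germ U x hx).hom a) c m⟩
  exact Module.Flat.of_isLocalizedModule (X.presheaf.stalk x) (hU.primeIdealOf ⟨x, hx⟩).asIdeal.primeCompl g

/-- Flatness is preserved by pullback. -/
theorem isFlat_pullback (f : X ⟶ Y) {F : Y.Modules} (hF : Coh.IsQCoh F) (h : FlatMod.IsFlat F) :
    FlatMod.IsFlat ((Scheme.Modules.pullback f).obj F) := by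
  refine isFlat_of_affine (isQCoh_pullback f hF) fun x => ?_
  obtain ⟨U, hU, V, hV, hVU, hx⟩ := exists_affine_pair f x
  letI : Algebra Γ(Y, U) Γ(X, V) := (f.appLE U V hVU).hom.toAlgebra
  haveI := LocFree.flat_sections hU hF h
  obtain ⟨e⟩ := pullback_sections f hF hU hV hVU
  exact ⟨V, hV, hx, Module.Flat.of_linearEquiv e.symm⟩

theorem subsingleton_sections_of_isZero {M : X.Modules} (h : IsZero M) (U : X.Opens) :
    Subsingleton Γ(M, U) := by
  refine subsingleton_of_forall_eq 0 fun s => ?_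
  show (𝟙 M : M ⟶ M).app U s = 0
  rw [h.eq_of_src (𝟙 M) 0]
  rfl

theorem isZero_of_affine {M : X.Modules} (hM : Coh.IsQCoh M)
    (h : ∀ U : X.Opens, IsAffineOpen U → Subsingleton Γ(M, U)) : IsZero M := by
  haveI : M.IsQuasicoherent := hM
  have hst : ∀ x : X, Subsingleton (M.presheaf.stalk x) := fun x => by
    obtain ⟨U, hU, hx⟩ := exists_affine_mem x
    refine subsingleton_of_forall_eq 0 fun σ => ?_
    have := h U hU
    have hns : x ∉ CohB1.support M := (notMem_support_iff_affine hU hx).2 fun m =>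
      ⟨1, by rw [X.basicOpen_of_isUnit isUnit_one]; exact hx, Subsingleton.elim _ _⟩
    obtain ⟨W, hW, s, rfl⟩ := TopCat.Presheaf.germ_exist M.presheaf σ
    obtain ⟨W', hW', hx', e⟩ := (notMem_support_iff x).1 hns W hW s
    rw [← germ_res M hW' x hx', e, map_zero]
  refine (IsZero.iff_id_eq_zero M).2 (Scheme.Modules.hom_ext _ _ fun U => ?_)
  ext s
  exact TopCat.Presheaf.IsSheaf.section_ext M.isSheaf fun x hx => by
    obtain ⟨W, hW, i₁, i₂, e⟩ := TopCat.Presheaf.germ_eq M.presheaf x hx hx s 0 ((hst x).elim _ _)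
    exact ⟨W, i₁.le, hW, e⟩

variable {Y' : Scheme.{u}} (f : X ⟶ Y) (u : Y' ⟶ Y) [IsAffineHom f] [IsClosedImmersion u]
  (hM : ∀ V ∈ Y.affineOpens,
      RingHom.ker (f.app V).hom ⊓ RingHom.ker (u.app V).hom = ⊥ ∧
      ∀ a ∈ Ideal.map (f.app V).hom (RingHom.ker (u.app V).hom),
        ∃ i ∈ RingHom.ker (u.app V).hom, (f.app V).hom i = a)
  (G : Y.Modules) (hG : Coh.IsQCoh G) {V : Y.Opens} (hV : IsAffineOpen V)

include hM hG hV

/-- The affine dictionary of a pinching square. -/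
theorem exists_chart :
    letI := (u.app V).hom.toAlgebra
    letI := (f.app V).hom.toAlgebra
    ∃ (A : Type u) (_ : CommRing A) (_ : Algebra Γ(Y', u ⁻¹ᵁ V) A) (_ : Algebra Γ(X, f ⁻¹ᵁ V) A)
      (_ : Algebra Γ(Y, V) A) (_ : IsScalarTower Γ(Y, V) Γ(Y', u ⁻¹ᵁ V) A)
      (_ : IsScalarTower Γ(Y, V) Γ(X, f ⁻¹ᵁ V) A),
      EtMil.IsFibreSquare Γ(Y, V) Γ(Y', u ⁻¹ᵁ V) Γ(X, f ⁻¹ᵁ V) A ∧
      Nonempty (Γ(Y', u ⁻¹ᵁ V) ⊗[Γ(Y, V)] Γ(G, V) ≃ₗ[Γ(Y', u ⁻¹ᵁ V)]
        Γ((Scheme.Modules.pullback u).obj G, u ⁻¹ᵁ V)) ∧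
      Nonempty (Γ(X, f ⁻¹ᵁ V) ⊗[Γ(Y, V)] Γ(G, V) ≃ₗ[Γ(X, f ⁻¹ᵁ V)]
        Γ((Scheme.Modules.pullback f).obj G, f ⁻¹ᵁ V)) := by
  letI := (u.app V).hom.toAlgebra
  letI := (f.app V).hom.toAlgebra
  obtain ⟨h1, h2⟩ := hM V hV
  obtain ⟨A, _, _, _, _, _, _, hsq⟩ := exists_square Γ(Y, V) Γ(Y', u ⁻¹ᵁ V) Γ(X, f ⁻¹ᵁ V)
    (u.app_surjective V hV) h1 h2
  have eu : u.appLE V (u ⁻¹ᵁ V) le_rfl = u.app V := by simp [Scheme.Hom.app_eq_appLE]
  have ef : f.appLE V (f ⁻¹ᵁ V) le_rfl = f.app V := by simp [Scheme.Hom.app_eq_appLE]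
  have hu := pullback_sections u hG hV (hV.preimage u) le_rfl
  have hf := pullback_sections f hG hV (hV.preimage f) le_rfl
  rw [eu] at hu
  rw [ef] at hf
  exact ⟨A, ‹_›, ‹_›, ‹_›, ‹_›, ‹_›, ‹_›, hsq, hu, hf⟩

end Groth.Agent.PinchQC
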